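import Cfsg.Agent.Lib.Char.Clifford
import Cfsg.Agent.Lib.Char.Kernel
import Cfsg.Agent.Lib.Char.Integral
import Cfsg.Agent.Lib.Grp.Basic

/-!
A faithful non-linear irreducible character of absolute value one on the `p`-singular elements,
restricted to a normal `p`-subgroup: the subgroup is elementary abelian and the restriction is the
regular character minus the principal one.
-/

namespace Cfsg.Agent.Block.RootSingular

open Cfsg Cfsg.Agent.Char
open scoped ComplexConjugate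

universe u

variable {G : Type u} [Group G]

/-- The standing assumptions. -/
structure Hyp (p : ℕ) (χ : G → ℂ) (d : ℕ) : Prop where
  irr : IsIrrCharacter G χ
  faith : ∀ g, χ g = χ 1 → g = 1
  deg : χ 1 = d
  two_le : 2 ≤ d
  root : ∀ g : G, p ∣ orderOf g → ‖χ g‖ = 1

variable [Finite G] {p : ℕ} [hp : Fact p.Prime] {χ : G → ℂ} {d : ℕ}

theorem Hyp.norm_of_mem (h : Hyp p χ d) {S : Subgroup G} (hS : IsPGroup p S) {x : G} (hx : x ∈ S)
    (h1 : x ≠ 1) : ‖χ x‖ = 1 := by
  apply h.root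
  obtain ⟨k, hk⟩ := IsPGroup.iff_orderOf.mp hS ⟨x, hx⟩
  rw [Subgroup.orderOf_mk] at hk
  rw [hk]
  refine dvd_pow_self p fun hk0 => h1 ?_
  rw [hk0, pow_zero] at hk
  exact orderOf_eq_one_iff.mp hk

/-- The norm of the restriction to a subgroup of `p`-singular elements. -/
theorem Hyp.norm_eq (h : Hyp p χ d) (S : Subgroup G) [Fintype S]
    (hS : ∀ x ∈ S, x ≠ 1 → ‖χ x‖ = 1) :
    ∃ N : ℕ, classInner (fun s : S => χ s) (fun s : S => χ s) = N ∧
      Nat.card S * N + 1 = d * d + Nat.card S := by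
  classical
  obtain ⟨N, hN⟩ := IsChar.classInner_nat (IsChar.res (IsIrr.isCharacter h.irr) S)
    (IsChar.res (IsIrr.isCharacter h.irr) S)
  refine ⟨N, hN, ?_⟩
  have hc : (Nat.card S : ℝ) ≠ 0 := Nat.cast_ne_zero.mpr Nat.card_pos.ne'
  have hsum : ∑ s : S, ‖χ s‖ ^ 2 = (d : ℝ) ^ 2 + ((Nat.card S : ℝ) - 1) := by
    rw [← Finset.add_sum_erase _ _ (Finset.mem_univ (1 : S)), Finset.sum_congr rfl
      (g := fun _ : S => (1 : ℝ)) (fun s hs => ?_)]
    · rw [Finset.sum_const, Finset.card_erase_of_mem (Finset.mem_univ _), Finset.card_univ,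
        nsmul_eq_mul, mul_one, Subgroup.coe_one, h.deg, Complex.norm_natCast,
        Nat.card_eq_fintype_card, Nat.cast_sub Fintype.card_pos, Nat.cast_one]
    · rw [hS s s.2 fun e => Finset.ne_of_mem_erase hs (Subtype.ext e), one_pow]
  rw [classInner_self, hsum] at hN
  have hN' : (Nat.card S : ℝ)⁻¹ * ((d : ℝ) ^ 2 + ((Nat.card S : ℝ) - 1)) = (N : ℝ) := by
    exact_mod_cast hN
  rw [inv_mul_eq_iff_eq_mul₀ hc] at hN'
  have : ((Nat.card S * N + 1 : ℕ) : ℝ) = ((d * d + Nat.card S : ℕ) : ℝ) := by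
    push_cast
    rw [← hN']
    ring
  exact_mod_cast this

theorem Hyp.center_trivial (h : Hyp p χ d) {N : Subgroup G} (hN : IsPGroup p N) :
    N ⊓ Subgroup.center G = ⊥ := by
  refine (Subgroup.eq_bot_iff_forall _).mpr fun x hx => by_contra fun h1 => ?_
  obtain ⟨c, hc, hc'⟩ := IsIrr.scalar_of_center h.irr (Subgroup.mem_inf.mp hx).2
  have h2 := hc' 1
  rw [mul_one, h.deg] at h2
  have h3 := h.norm_of_mem hN (Subgroup.mem_inf.mp hx).1 h1
  rw [h2, norm_mul, hc, one_mul, Complex.norm_natCast] at h3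
  have : d = 1 := by exact_mod_cast h3
  have := h.two_le
  omega

omit [Finite G] hp in
/-- Arithmetic of the orbit sum. -/
theorem orbit_arith {c e o : ℕ} (hc : 2 ≤ c) (ho : 2 ≤ e * o)
    (heq : c * (e * e * o) + 1 = e * o * (e * o) + c) : e = 1 ∧ o + 1 = c := by
  have he : 1 ≤ e := by
    rcases Nat.eq_zero_or_pos e with h | h
    · simp [h] at ho
    · exact h
  have ho1 : 1 ≤ o := by
    rcases Nat.eq_zero_or_pos o with h | h
    · simp [h] at ho
    · exact h
  have hlt : o < c := by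
    by_contra hge
    have : c * (e * e * o) ≤ o * (e * e * o) := Nat.mul_le_mul_right _ (not_lt.mp hge)
    nlinarith
  obtain ⟨k, rfl⟩ : ∃ k, c = o + k := ⟨c - o, by omega⟩
  have h1 : e * e * (o * k) + 1 = o + k := by nlinarith
  have h2 : o + k ≤ o * k + 1 := by
    have : 0 ≤ ((o : ℤ) - 1) * ((k : ℤ) - 1) :=
      mul_nonneg (by omega) (by omega)
    nlinarith
  have h4 : e = 1 := by
    by_contra hne
    have : 2 ≤ e := by omega
    have h5 : 4 ≤ e * e := by nlinarith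
    have h6 : 1 ≤ o * k := Nat.mul_pos ho1 (by omega)
    nlinarith
  subst h4
  simp only [one_mul] at h1 ho
  refine ⟨rfl, ?_⟩
  have h7 : ((o : ℤ) - 1) * ((k : ℤ) - 1) = 0 := by nlinarith
  rcases mul_eq_zero.mp h7 with h8 | h8 <;> omega

/-- A function equal to the regular character minus the principal one has all multiplicities
at most one. -/
theorem mult_of_values {A : Type u} [Group A] [Fintype A] (hA : ∀ a b : A, a * b = b * a)
    {f : A → ℂ} (h1 : f 1 + 1 = (Nat.card A : ℂ)) (hf : ∀ a, a ≠ 1 → f a = -1) {θ : A → ℂ}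
    (hθ : IsIrrCharacter A θ) [Decidable (θ = fun _ => 1)] :
    classInner f θ = if θ = (fun _ => 1) then 0 else 1 := by
  classical
  have hd : f = fun a => (if a = 1 then (Nat.card A : ℂ) else 0) - 1 := funext fun a => by
    by_cases ha : a = 1
    · rw [ha, if_pos rfl, ← h1, add_sub_cancel_right]
    · simp [ha, hf a ha]
  have e : classInner f θ = conj (θ 1) - classInner (fun _ : A => (1 : ℂ)) θ := by
    rw [hd]
    simp [classInner, sub_mul, Finset.sum_sub_distrib, mul_sub, Nat.card_pos.ne']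
  rw [e, IsIrr.one_of_comm hA hθ, map_one]
  by_cases ht : θ = fun _ => 1
  · rw [if_pos ht, ht, classInner_self_irr isIrr_one, sub_self]
  · rw [if_neg ht, classInner_irr_ne isIrr_one hθ fun e => ht e.symm, sub_zero]

/-- Restriction to a normal abelian `p`-subgroup. -/
theorem Hyp.abelian_normal (h : Hyp p χ d) {N : Subgroup G} [hn : N.Normal] (hN : IsPGroup p N)
    (hne : N ≠ ⊥) (hab : ∀ a ∈ N, ∀ b ∈ N, a * b = b * a) :
    d + 1 = Nat.card N ∧ (∀ x ∈ N, x ≠ 1 → χ x = -1) ∧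
      ∀ lam mu : N → ℂ, IsIrrCharacter N lam → IsIrrCharacter N mu → lam ≠ (fun _ => 1) →
        mu ≠ (fun _ => 1) → ∃ g : G, conjN N g lam = mu := by
  classical
  haveI := Fintype.ofFinite G
  have hab' : ∀ a b : N, a * b = b * a := fun a b => Subtype.ext (hab a a.2 b b.2)
  have hres := IsChar.res (IsIrr.isCharacter h.irr) N
  obtain ⟨θ, hθc⟩ := IsChar.exists_constituent' hres (by
    simp only [Subgroup.coe_one]; exact IsIrr.one_ne_zero h.irr)
  have hθ := θ.2
  obtain ⟨e, he⟩ := IsChar.classInner_nat hres (IsIrr.isCharacter hθ)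
  set O := conjOrbit N (θ : N → ℂ) with hOdef
  have hcl := clifford N h.irr hθ hθc
  rw [he] at hcl
  have hirr : ∀ ψ ∈ O, IsIrrCharacter N ψ := fun ψ hψ => by
    obtain ⟨g, rfl⟩ := (mem_conjOrbit N).mp hψ
    exact IsIrr.conjN N hθ g
  have hdO : d = e * O.card := by
    have h1 := congrFun hcl 1
    simp only [Subgroup.coe_one, Pi.smul_apply, Finset.sum_apply, smul_eq_mul] at h1
    rw [h.deg, Finset.sum_congr rfl (g := fun _ => (1 : ℂ))
      (fun ψ hψ => IsIrr.one_of_comm hab' (hirr ψ hψ)), Finset.sum_const, nsmul_eq_mul, mul_one]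
      at h1
    exact_mod_cast h1
  have hnorm : classInner (fun n : N => χ n) (fun n : N => χ n) =
      ((e * e * O.card : ℕ) : ℂ) := by
    rw [hcl, classInner_smul_left, classInner_smul_right, classInner_sum_left,
      Finset.sum_congr rfl (g := fun _ => (1 : ℂ)) (fun ψ hψ => ?_), Finset.sum_const,
      nsmul_eq_mul, mul_one, map_natCast]
    · push_cast; ring
    · rw [classInner_sum_right, Finset.sum_eq_single ψ
        (fun φ hφ hne => classInner_irr_ne (hirr ψ hψ) (hirr φ hφ) (Ne.symm hne))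
        (fun hn => absurd hψ hn), classInner_self_irr (hirr ψ hψ)]
  obtain ⟨M, hM, hM'⟩ := h.norm_eq N fun x hx h1 => h.norm_of_mem hN hx h1
  have hMe : M = e * e * O.card := by exact_mod_cast hM.symm.trans hnorm
  have hc2 : 2 ≤ Nat.card N := N.one_lt_card_iff_ne_bot.mpr hne
  obtain ⟨rfl, hOc⟩ := orbit_arith hc2 (hdO ▸ h.two_le) (by rw [← hMe, ← hdO]; exact hM')
  rw [one_mul] at hdO
  -- the orbit consists of all non-principal characters
  have htriv : (fun _ : N => (1 : ℂ)) ∉ O := fun ht => by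
    obtain ⟨g, hg⟩ := (mem_conjOrbit N).mp ht
    have hθ1 : (θ : N → ℂ) = fun _ => 1 := by
      have := congrArg (conjN N g⁻¹) hg
      rwa [conjN_inv_cancel] at this
    have : O.card ≤ 1 := Finset.card_le_one.mpr fun a ha b hb => by
      obtain ⟨x, rfl⟩ := (mem_conjOrbit N).mp ha
      obtain ⟨y, rfl⟩ := (mem_conjOrbit N).mp hb
      rw [hθ1]; rfl
    have := h.two_le
    omega
  set A : Finset (N → ℂ) := (Finset.univ : Finset (IrrCharacter N)).image Subtype.val with hA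
  have hAone : ∀ χ' : IrrCharacter N, (χ' : N → ℂ) 1 = 1 := fun χ' => IsIrr.one_of_comm hab' χ'.2
  have hAcard : A.card = Nat.card N := by
    rw [hA, Finset.card_image_of_injective _ Subtype.val_injective]
    have h1 := sum_degree_sq (G := N)
    simp only [hAone, one_pow, Finset.sum_const, nsmul_eq_mul, mul_one] at h1
    exact_mod_cast h1
  have h1A : (fun _ : N => (1 : ℂ)) ∈ A :=
    Finset.mem_image.mpr ⟨⟨_, isIrr_one⟩, Finset.mem_univ _, rfl⟩
  have hOA : O = A.erase (fun _ => 1) := by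
    refine Finset.eq_of_subset_of_card_le (fun ψ hψ => Finset.mem_erase.mpr
      ⟨fun e => htriv (e ▸ hψ), Finset.mem_image.mpr ⟨⟨ψ, hirr ψ hψ⟩, Finset.mem_univ _, rfl⟩⟩) ?_
    rw [Finset.card_erase_of_mem h1A, hAcard]
    omega
  refine ⟨by omega, fun x hx h1 => ?_, fun lam mu hlam hmu hl1 hm1 => ?_⟩
  · have h2 := congrFun hcl ⟨x, hx⟩
    simp only [Nat.cast_one, one_smul, Finset.sum_apply] at h2
    rw [h2, ← hOdef, hOA, Finset.sum_erase_eq_sub h1A, hA,
      Finset.sum_image (fun a _ b _ hab => Subtype.ext hab)]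
    have h3 := regular_expansion (G := N) ⟨x, hx⟩
    simp only [hAone, one_mul] at h3
    rw [h3, if_neg fun e => h1 (congrArg Subtype.val e), zero_sub]
  · have key : ∀ ν : N → ℂ, IsIrrCharacter N ν → ν ≠ (fun _ => 1) → ν ∈ O := fun ν hν hν1 => by
      rw [hOA]
      exact Finset.mem_erase.mpr ⟨hν1, Finset.mem_image.mpr ⟨⟨ν, hν⟩, Finset.mem_univ _, rfl⟩⟩
    obtain ⟨a, ha⟩ := (mem_conjOrbit N).mp (key lam hlam hl1)
    obtain ⟨b, hb⟩ := (mem_conjOrbit N).mp (key mu hmu hm1)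
    exact ⟨a⁻¹ * b, by rw [← ha, conjN_mul, conjN_inv_cancel, hb]⟩

/-- A non-trivial normal `p`-subgroup is abelian. -/
theorem Hyp.pGroup_comm (h : Hyp p χ d) {P : Subgroup G} [hn : P.Normal] (hP : IsPGroup p P)
    (hne : P ≠ ⊥) : ∀ a ∈ P, ∀ b ∈ P, a * b = b * a := by
  classical
  haveI := Fintype.ofFinite G
  haveI : Nontrivial P := (Subgroup.nontrivial_iff_ne_bot P).mpr hne
  haveI := hP.center_nontrivial
  set Z : Subgroup G := (Subgroup.center P).map P.subtype with hZdef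
  haveI : Z.Normal := Grp.normal_of_characteristic_map _
  have hZne : Z ≠ ⊥ := by
    rw [hZdef, Ne, Subgroup.map_eq_bot_iff_of_injective _ P.subtype_injective]
    exact (Subgroup.nontrivial_iff_ne_bot _).mp inferInstance
  have hZP : IsPGroup p Z := hP.to_le (Subgroup.map_subtype_le _)
  have hZab : ∀ a ∈ Z, ∀ b ∈ Z, a * b = b * a := by
    rintro _ ⟨a, ha, rfl⟩ _ ⟨b, hb, rfl⟩
    exact congrArg Subtype.val ((Subgroup.mem_center_iff.mp hb a))
  obtain ⟨hd, -, -⟩ := h.abelian_normal hZP hZne hZab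
  obtain ⟨j, hj⟩ := IsPGroup.iff_card.mp hZP
  have hpd : ¬ p ∣ d := fun hdvd => by
    have h2 : 2 ≤ Nat.card Z := Z.one_lt_card_iff_ne_bot.mpr hZne
    have h3 : p ∣ Nat.card Z := hj ▸ dvd_pow_self p (fun h0 => by rw [h0, pow_zero] at hj; omega)
    rw [← hd] at h3
    exact hp.out.not_dvd_one ((Nat.dvd_add_right hdvd).mp h3)
  have hres := IsChar.res (IsIrr.isCharacter h.irr) P
  obtain ⟨θ, hθc⟩ := IsChar.exists_constituent' hres (by
    simp only [Subgroup.coe_one]; exact IsIrr.one_ne_zero h.irr)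
  obtain ⟨e, he⟩ := IsChar.classInner_nat hres (IsIrr.isCharacter θ.2)
  obtain ⟨n, -, hn⟩ := IsIrr.one_eq_pos θ.2
  have hdeg := clifford_one P h.irr θ.2 hθc
  rw [h.deg, he, hn] at hdeg
  have hdeg' : d = e * (inertia P (θ : P → ℂ)).index * n := by exact_mod_cast hdeg
  obtain ⟨k, hk⟩ := IsPGroup.iff_card.mp hP
  have hn1 : n = 1 := by
    obtain ⟨i, -, hi⟩ := (Nat.dvd_prime_pow hp.out).mp (hk ▸ IsIrr.degree_dvd_card θ.2 hn)
    rcases i with _ | i
    · simpa using hi
    · exact absurd (hdeg' ▸ (hi ▸ dvd_mul_of_dvd_right (dvd_pow_self p (Nat.succ_ne_zero i)) _)) hpd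
  intro a ha b hb
  set c : P := ⟨a, ha⟩ * ⟨b, hb⟩ * (⟨a, ha⟩ : P)⁻¹ * (⟨b, hb⟩ : P)⁻¹ with hc
  have hlin : ∀ ψ ∈ conjOrbit P (θ : P → ℂ), ψ c = ψ 1 := fun ψ hψ => by
    obtain ⟨g, rfl⟩ := (mem_conjOrbit P).mp hψ
    obtain ⟨l, hl⟩ := linearHom_of_isCharacter (IsIrr.isCharacter (IsIrr.conjN P θ.2 g)) (by
      rw [conjN_apply]
      refine Eq.trans (congrArg (θ : P → ℂ) (Subtype.ext (by simp))) (?_ : (θ : P → ℂ) 1 = 1)
      rw [hn, hn1, Nat.cast_one])
    have : l c = 1 := by rw [hc, map_mul, map_mul, map_mul, map_inv, map_inv, mul_comm (l _) (l _),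
      mul_inv_cancel_right, mul_inv_cancel]
    simp [hl, this]
  have hker : χ (c : G) = χ 1 := by
    have h1 := congrFun (clifford P h.irr θ.2 hθc) c
    have h2 := congrFun (clifford P h.irr θ.2 hθc) 1
    simp only [Pi.smul_apply, Finset.sum_apply, smul_eq_mul, Subgroup.coe_one] at h1 h2
    rw [h1, h2, Finset.sum_congr rfl hlin]
  have h1 := h.faith _ hker
  simp only [hc, Subgroup.coe_mul, InvMemClass.coe_inv] at h1
  rwa [mul_inv_eq_one, mul_inv_eq_iff_eq_mul] at h1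

/-- A non-trivial normal `p`-subgroup is elementary abelian. -/
theorem Hyp.pGroup_pow (h : Hyp p χ d) {P : Subgroup G} [hn : P.Normal] (hP : IsPGroup p P)
    (hne : P ≠ ⊥) : ∀ a ∈ P, a ^ p = 1 := by
  have hab := h.pGroup_comm hP hne
  let Ω : Subgroup G :=
    { carrier := {x | x ∈ P ∧ x ^ p = 1}
      mul_mem' := fun {a b} ha hb => ⟨P.mul_mem ha.1 hb.1, by
        rw [Commute.mul_pow (hab a ha.1 b hb.1), ha.2, hb.2, one_mul]⟩
      one_mem' := ⟨P.one_mem, one_pow p⟩
      inv_mem' := fun {a} ha => ⟨P.inv_mem ha.1, by rw [inv_pow, ha.2, inv_one]⟩ }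
  have hΩP : Ω ≤ P := fun x hx => hx.1
  haveI : Ω.Normal := ⟨fun x hx g => ⟨hn.conj_mem x hx.1 g, by rw [conj_pow, hx.2]; group⟩⟩
  have hΩne : Ω ≠ ⊥ := by
    haveI : Nontrivial P := (Subgroup.nontrivial_iff_ne_bot P).mpr hne
    obtain ⟨k, hk0, hk⟩ := hP.nontrivial_iff_card.mp inferInstance
    obtain ⟨x, hx⟩ := exists_prime_orderOf_dvd_card' p (hk ▸ dvd_pow_self p hk0.ne')
    intro e
    have : (x : G) ∈ Ω := ⟨x.2, by rw [← Subgroup.coe_pow, ← hx, pow_orderOf_eq_one,
      Subgroup.coe_one]⟩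
    rw [e, Subgroup.mem_bot] at this
    rw [show x = 1 from Subtype.ext this, orderOf_one] at hx
    exact hp.out.one_lt.ne hx
  obtain ⟨h1, -, -⟩ := h.abelian_normal (hP.to_le hΩP) hΩne
    (fun a ha b hb => hab a (hΩP ha) b (hΩP hb))
  obtain ⟨h2, -, -⟩ := h.abelian_normal hP hne hab
  intro a ha
  have e : Ω = P := Subgroup.eq_of_le_of_card_ge hΩP (by omega)
  exact (e.symm ▸ ha : a ∈ Ω).2

end Cfsg.Agent.Block.RootSingular
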