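import Cfsg.Agent.Lib.Block.RootSingular.Sylow

/-!
The centralizer of the normal `p`-subgroup is the product of that subgroup and the centre.
-/

namespace Cfsg.Agent.Block.RootSingular

open Cfsg Cfsg.Agent.Char
open scoped ComplexConjugate

universe u

variable {G : Type u} [Group G] [Finite G] {p : ℕ} [hp : Fact p.Prime] {χ : G → ℂ} {d : ℕ}
  {P : Subgroup G} [P.Normal]

omit hp in
theorem Hyp.mem_center (h : Hyp p χ d) {b : G} (hb : ‖χ b‖ = (d : ℝ)) :
    b ∈ Subgroup.center G := by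
  obtain ⟨⟨n, ρ, hρ, rfl⟩, hfaith, hdeg, -, -⟩ := h
  have hdn : (Module.finrank ℂ (Fin n → ℂ) : ℝ) = (d : ℝ) := by
    rw [Representation.char_one] at hdeg
    exact_mod_cast hdeg
  obtain ⟨c, hc⟩ := (norm_character_eq_iff ρ b).1 (hb.trans hdn.symm)
  refine Subgroup.mem_center_iff.2 fun g => ?_
  have hcomm : ρ g * ρ b = ρ b * ρ g := by
    rw [hc, ← Module.End.one_eq_id, mul_smul_comm, smul_mul_assoc, mul_one, one_mul]
  have h1 : ρ (g * b * g⁻¹ * b⁻¹) = 1 := by
    rw [map_mul, map_mul, map_mul, hcomm, mul_assoc (ρ b), ← map_mul, mul_inv_cancel, map_one,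
      mul_one, ← map_mul, mul_inv_cancel, map_one]
  have h2 := hfaith (g * b * g⁻¹ * b⁻¹) (by rw [Representation.character, h1, ← map_one ρ]; rfl)
  rwa [mul_inv_eq_one, mul_inv_eq_iff_eq_mul] at h2

theorem Hyp.pElem_mem (h : Hyp p χ d) (hP : IsPGroup p P) (hne : P ≠ ⊥) {c : G}
    (hc : c ∈ Subgroup.centralizer (P : Set G)) {k : ℕ} (hk : c ^ p ^ k = 1) : c ∈ P := by
  have hz : IsPGroup p (Subgroup.zpowers c) := by
    obtain ⟨j, -, hj⟩ := (Nat.dvd_prime_pow hp.out).mp (orderOf_dvd_of_pow_eq_one hk)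
    exact IsPGroup.of_card (n := j) (by rw [Nat.card_zpowers, hj])
  have hcQ : c ∈ Subgroup.zpowers c ⊔ P :=
    Subgroup.mem_sup_left (Subgroup.mem_zpowers c)
  rcases h.sylow_alt hP hne (hz.to_sup_of_normal_right hP) le_sup_right with e | ⟨-, -, -, e, -⟩
  · rwa [e] at hcQ
  · by_contra hcP
    exact e c hcQ hcP hc

/-- The sum of squares of absolute values on a coset `Pc`, for `c` centralizing `P`. -/
theorem Hyp.sum_coset (h : Hyp p χ d) (hP : IsPGroup p P) (hne : P ≠ ⊥) [Fintype P] {c : G}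
    (hc : c ∈ Subgroup.centralizer (P : Set G)) :
    ∑ x : P, ‖χ ((x : G) * c)‖ ^ 2 = (Nat.card P : ℝ) * (d : ℝ) := by
  classical
  haveI := Fintype.ofFinite G
  obtain ⟨hcard, hv⟩ := h.card_P hP hne
  have hab : ∀ a b : P, a * b = b * a := fun a b =>
    Subtype.ext (h.pGroup_comm hP hne a a.2 b b.2)
  set C := Subgroup.centralizer (P : Set G) with hC
  haveI : C.Normal := inferInstanceAs (Subgroup.centralizer (P : Set G)).Normal
  haveI : Fintype C := Fintype.ofFinite C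
  have hPC : P ≤ C := fun a ha => Subgroup.mem_centralizer_iff.mpr fun b hb =>
    h.pGroup_comm hP hne b hb a ha
  let ι : P →* C := Subgroup.inclusion hPC
  have hιc : ∀ x : P, ι x ∈ Subgroup.center C := fun x => Subgroup.mem_center_iff.mpr fun g =>
    Subtype.ext (Subgroup.mem_centralizer_iff.mp g.2 x x.2).symm
  have hres := IsChar.res (IsIrr.isCharacter h.irr) C
  -- every constituent is linear
  have key : ∀ φ : C → ℂ, IsIrrCharacter C φ → classInner (fun g : C => χ g) φ ≠ 0 →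
      φ 1 = 1 ∧ classInner (fun g : C => χ g) φ = 1 ∧
      ∀ ψ ∈ conjOrbit C φ, ψ ≠ φ →
        classInner (fun x : P => ψ (ι x)) (fun x : P => φ (ι x)) = 0 := by
    intro φ hφ hφc
    obtain ⟨n, hn0, hn⟩ := IsIrr.one_eq_pos hφ
    have hn' : φ 1 ≠ 0 := IsIrr.one_ne_zero hφ
    choose s hs1 hs using fun x : P => IsIrr.scalar_of_center hφ (hιc x)
    have hs' : ∀ x, φ (ι x) = s x * φ 1 := fun x => by rw [← hs x 1, mul_one]
    have hsmul : ∀ x y, s (x * y) = s x * s y := fun x y => by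
      refine mul_right_cancel₀ hn' ?_
      rw [← hs' (x * y), map_mul, hs x, hs' y, mul_assoc]
    have hs_one : s 1 = 1 := mul_right_cancel₀ hn' (by rw [← hs' 1, map_one, one_mul])
    let l₀ : P →* ℂ := { toFun := s, map_one' := hs_one, map_mul' := hsmul }
    let lam : P → ℂ := fun x => s x
    have hlam : IsIrrCharacter P lam := isIrr_linear l₀.toHomUnits
    have hφP : (fun x : P => φ (ι x)) = (n : ℂ) • lam := funext fun x => by
      rw [hs' x, hn, Pi.smul_apply, smul_eq_mul, mul_comm]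
    have hφl : classInner (fun x : P => φ (ι x)) lam = (n : ℂ) := by
      rw [hφP, classInner_smul_left, classInner_self_irr hlam, mul_one]
    have hO : ∀ ψ ∈ conjOrbit C φ, IsIrrCharacter C ψ := fun ψ hψ => by
      obtain ⟨g, rfl⟩ := (mem_conjOrbit C).mp hψ
      exact IsIrr.conjN C hφ g
    obtain ⟨f, hf⟩ := IsChar.classInner_nat hres (IsIrr.isCharacter hφ)
    have hf0 : 0 < f := Nat.pos_of_ne_zero fun e => hφc (by rw [hf, e, Nat.cast_zero])
    have hm : ∀ ψ : {ψ // ψ ∈ conjOrbit C φ}, ∃ m : ℕ,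
        classInner (fun x : P => ψ.1 (ι x)) lam = m := fun ψ =>
      IsChar.classInner_nat (IsChar.comp ι (IsIrr.isCharacter (hO ψ.1 ψ.2)))
        (IsIrr.isCharacter hlam)
    choose m hm using hm
    have hcl := clifford C h.irr hφ hφc
    rw [hf] at hcl
    have hsum : classInner (fun x : P => χ x) lam =
        ((f * ∑ ψ : {ψ // ψ ∈ conjOrbit C φ}, m ψ : ℕ) : ℂ) := by
      rw [show (fun x : P => χ x) = (f : ℂ) • ∑ ψ : {ψ // ψ ∈ conjOrbit C φ},
        (fun x : P => ψ.1 (ι x)) from funext fun x => ?_]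
      · rw [classInner_smul_left, classInner_sum_left]
        simp [hm]
      · have h1 := congrFun hcl (ι x)
        simp only [ι, Pi.smul_apply, Finset.sum_apply, smul_eq_mul,
          Subgroup.coe_inclusion] at h1 ⊢
        rw [h1, Finset.univ_eq_attach,
          Finset.sum_attach (conjOrbit C φ) (fun ψ => ψ (Subgroup.inclusion hPC x))]
    rw [mult_of_values hab (f := fun x : P => χ x) (by
      rw [Subgroup.coe_one, h.deg, ← hcard, Nat.cast_add, Nat.cast_one])
      (fun x hx => hv x x.2 fun e => hx (Subtype.ext e)) hlam] at hsum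
    have hle : f * ∑ ψ : {ψ // ψ ∈ conjOrbit C φ}, m ψ ≤ 1 := by
      split_ifs at hsum with ht
      · rw [Nat.cast_eq_zero.mp hsum.symm]; exact Nat.zero_le _
      · rw [show f * ∑ ψ : {ψ // ψ ∈ conjOrbit C φ}, m ψ = 1 by exact_mod_cast hsum.symm]
    have hφO : φ ∈ conjOrbit C φ := (mem_conjOrbit C).mpr ⟨1, conjN_one C φ⟩
    have hmφ : m ⟨φ, hφO⟩ = n := by exact_mod_cast (hm ⟨φ, hφO⟩).symm.trans hφl
    have h1 : m ⟨φ, hφO⟩ ≤ ∑ ψ : {ψ // ψ ∈ conjOrbit C φ}, m ψ :=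
      Finset.single_le_sum (fun _ _ => Nat.zero_le _) (Finset.mem_univ _)
    have hS1 : ∑ ψ : {ψ // ψ ∈ conjOrbit C φ}, m ψ ≤ 1 :=
      le_trans (Nat.le_mul_of_pos_left _ hf0) hle
    have hn1 : n = 1 := by omega
    have hf1 : f = 1 := by
      have : f * 1 ≤ f * ∑ ψ : {ψ // ψ ∈ conjOrbit C φ}, m ψ :=
        Nat.mul_le_mul_left f (by omega)
      omega
    refine ⟨by rw [hn, hn1, Nat.cast_one], by rw [hf, hf1, Nat.cast_one], fun ψ hψ hψne => ?_⟩
    have h2 : m ⟨φ, hφO⟩ + m ⟨ψ, hψ⟩ ≤ ∑ ψ : {ψ // ψ ∈ conjOrbit C φ}, m ψ := by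
      rw [← Finset.sum_pair (fun e => hψne (congrArg Subtype.val e).symm :
        (⟨φ, hφO⟩ : {ψ // ψ ∈ conjOrbit C φ}) ≠ ⟨ψ, hψ⟩)]
      exact Finset.sum_le_sum_of_subset (Finset.subset_univ _)
    rw [hφP, hn1, Nat.cast_one, one_smul, hm ⟨ψ, hψ⟩, show m ⟨ψ, hψ⟩ = 0 by omega, Nat.cast_zero]
  obtain ⟨φ, hφc⟩ := IsChar.exists_constituent' hres (by
    simp only [Subgroup.coe_one]; exact IsIrr.one_ne_zero h.irr)
  obtain ⟨hφ1, hφm, -⟩ := key φ φ.2 hφc
  set O := conjOrbit C (φ : C → ℂ) with hO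
  have hOmem : ∀ ψ ∈ O, IsIrrCharacter C ψ ∧ classInner (fun g : C => χ g) ψ ≠ 0 ∧
      conjOrbit C ψ = O := by
    intro ψ hψ
    obtain ⟨g, rfl⟩ := (mem_conjOrbit C).mp hψ
    refine ⟨IsIrr.conjN C φ.2 g, by rwa [classInner_res_conjN C (IsIrr.classFun h.irr)], ?_⟩
    ext η
    simp only [hO, mem_conjOrbit]
    constructor
    · rintro ⟨a, ha⟩
      exact ⟨g * a, by rw [conjN_mul]; exact ha⟩
    · rintro ⟨a, ha⟩
      exact ⟨g⁻¹ * a, by rw [conjN_mul, conjN_inv_cancel]; exact ha⟩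
  have hlinear : ∀ ψ ∈ O, ∃ l : C →* ℂˣ, ψ = fun g => (l g : ℂ) := fun ψ hψ =>
    linearHom_of_isCharacter (IsIrr.isCharacter (hOmem ψ hψ).1)
      (key ψ (hOmem ψ hψ).1 (hOmem ψ hψ).2.1).1
  have hcl := clifford C h.irr φ.2 hφc
  rw [hφm, one_smul] at hcl
  have hOd : (O.card : ℂ) = (d : ℂ) := by
    have h1 := congrFun hcl 1
    simp only [Subgroup.coe_one, Finset.sum_apply] at h1
    rw [h.deg, Finset.sum_congr rfl (g := fun _ => (1 : ℂ))
      (fun ψ hψ => (key ψ (hOmem ψ hψ).1 (hOmem ψ hψ).2.1).1), Finset.sum_const, nsmul_eq_mul,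
      mul_one] at h1
    exact h1.symm
  set c' : C := ⟨c, hc⟩ with hc'
  have hval : ∀ x : P, χ ((x : G) * c) = ∑ ψ ∈ O, ψ (ι x) * ψ c' := fun x => by
    have h1 := congrFun hcl (ι x * c')
    simp only [Finset.sum_apply] at h1
    rw [show χ ((x : G) * c) = χ ((ι x * c' : C) : G) from rfl, h1]
    refine Finset.sum_congr rfl fun ψ hψ => ?_
    obtain ⟨l, rfl⟩ := hlinear ψ hψ
    simp
  have horth : ∀ ψ ∈ O, ∀ η ∈ O,
      ∑ x : P, ψ (ι x) * conj (η (ι x)) = if ψ = η then (Nat.card P : ℂ) else 0 := by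
    intro ψ hψ η hη
    have hcne : (Nat.card P : ℂ) ≠ 0 := Nat.cast_ne_zero.mpr Nat.card_pos.ne'
    split_ifs with e
    · subst e
      obtain ⟨l, rfl⟩ := hlinear ψ hψ
      have h1 := classInner_self_irr (isIrr_linear (l.comp ι))
      rw [classInner, inv_mul_eq_iff_eq_mul₀ hcne, mul_one] at h1
      exact h1
    · obtain ⟨hη1, hη2, hη3⟩ := hOmem η hη
      have h1 := (key η hη1 hη2).2.2 ψ (hη3 ▸ hψ) e
      rw [classInner, mul_eq_zero] at h1
      exact h1.resolve_left (inv_ne_zero hcne)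
  have hunit : ∀ ψ ∈ O, ψ c' * conj (ψ c') = 1 := fun ψ hψ => by
    obtain ⟨l, rfl⟩ := hlinear ψ hψ
    show (l c' : ℂ) * conj (l c' : ℂ) = 1
    rw [show conj (l c' : ℂ) = (l c'⁻¹ : ℂ) from (IsIrr.apply_inv (isIrr_linear l) c').symm,
      map_inv, Units.mul_inv]
  have hfin : ((∑ x : P, ‖χ ((x : G) * c)‖ ^ 2 : ℝ) : ℂ) = (Nat.card P : ℂ) * (d : ℂ) := by
    push_cast
    calc ∑ x : P, ((‖χ ((x : G) * c)‖ : ℂ)) ^ 2
        = ∑ x : P, χ ((x : G) * c) * conj (χ ((x : G) * c)) := by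
          simp [Complex.mul_conj, Complex.normSq_eq_norm_sq]
      _ = ∑ x : P, ∑ ψ ∈ O, ∑ η ∈ O, ψ c' * conj (η c') * (ψ (ι x) * conj (η (ι x))) := by
          refine Finset.sum_congr rfl fun x _ => ?_
          rw [hval, map_sum, Finset.sum_mul_sum]
          simp only [map_mul]
          refine Finset.sum_congr rfl fun ψ _ => Finset.sum_congr rfl fun η _ => ?_
          ring
      _ = ∑ ψ ∈ O, ∑ η ∈ O, ψ c' * conj (η c') * ∑ x : P, ψ (ι x) * conj (η (ι x)) := by
          rw [Finset.sum_comm]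
          refine Finset.sum_congr rfl fun ψ _ => ?_
          rw [Finset.sum_comm]
          simp only [Finset.mul_sum]
      _ = ∑ ψ ∈ O, (Nat.card P : ℂ) := by
          refine Finset.sum_congr rfl fun ψ hψ => ?_
          rw [Finset.sum_eq_single ψ (fun η hη hne => by
            rw [horth ψ hψ η hη, if_neg (Ne.symm hne), mul_zero]) (fun hn => absurd hψ hn),
            horth ψ hψ ψ hψ, if_pos rfl, hunit ψ hψ, one_mul]
      _ = _ := by rw [Finset.sum_const, nsmul_eq_mul, hOd, mul_comm]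
  exact_mod_cast hfin

theorem Hyp.centralizer_eq (h : Hyp p χ d) (hP : IsPGroup p P) (hne : P ≠ ⊥) :
    Subgroup.centralizer (P : Set G) = P ⊔ Subgroup.center G := by
  classical
  haveI := Fintype.ofFinite G
  haveI : Fintype P := Fintype.ofFinite P
  refine le_antisymm (fun c hc => ?_) (sup_le
    (fun a ha => Subgroup.mem_centralizer_iff.mpr fun b hb => h.pGroup_comm hP hne b hb a ha)
    (Subgroup.center_le_centralizer _))
  set n := orderOf c with hn
  have hn0 : n ≠ 0 := (orderOf_pos c).ne'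
  obtain ⟨k, m, hm, hnm⟩ := Nat.exists_eq_pow_mul_and_not_dvd hn0 p hp.out.ne_one
  have hcop : (p ^ k).Coprime m := ((hp.out.coprime_iff_not_dvd).mpr hm).pow_left k
  obtain ⟨a, b, ha, hb, hak, hbm, hab⟩ := Grp.exists_pow_decomp hcop
    (by rw [← hnm, hn, pow_orderOf_eq_one] : c ^ (p ^ k * m) = 1)
  have haC : a ∈ Subgroup.centralizer (P : Set G) := Subgroup.zpowers_le.mpr hc ha
  have hbC : b ∈ Subgroup.centralizer (P : Set G) := Subgroup.zpowers_le.mpr hc hb
  have haP := h.pElem_mem hP hne haC hak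
  refine hab ▸ Subgroup.mul_mem _ (Subgroup.mem_sup_left haP) (Subgroup.mem_sup_right ?_)
  apply h.mem_center
  obtain ⟨hcard, -⟩ := h.card_P hP hne
  have hothers : ∀ x : P, x ≠ 1 → ‖χ ((x : G) * b)‖ = 1 := fun x hx => by
    have hcomm : Commute (x : G) b := Subgroup.mem_centralizer_iff.mp hbC x x.2
    obtain ⟨j, hj⟩ := IsPGroup.iff_orderOf.mp hP x
    rw [← Subgroup.orderOf_coe] at hj
    have hj0 : j ≠ 0 := fun e => hx (Subtype.ext (orderOf_eq_one_iff.mp (by rw [hj, e, pow_zero])))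
    have hcp : (orderOf (x : G)).Coprime (orderOf b) := by
      rw [hj]
      exact ((((hp.out.coprime_iff_not_dvd).mpr hm).pow_left j).coprime_dvd_right
        (orderOf_dvd_of_pow_eq_one hbm))
    apply h.root
    rw [hcomm.orderOf_mul_eq_mul_orderOf_of_coprime hcp, hj]
    exact Dvd.dvd.mul_right (dvd_pow_self p hj0) _
  have hs := h.sum_coset hP hne hbC
  rw [← Finset.add_sum_erase _ _ (Finset.mem_univ (1 : P)), Finset.sum_congr rfl
      (g := fun _ : P => (1 : ℝ)) (fun x hx => by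
        rw [hothers x (Finset.ne_of_mem_erase hx), one_pow]),
    Finset.sum_const, Finset.card_erase_of_mem (Finset.mem_univ _), Finset.card_univ,
    nsmul_eq_mul, mul_one, Subgroup.coe_one, one_mul, Nat.cast_sub Fintype.card_pos,
    ← Nat.card_eq_fintype_card, ← hcard] at hs
  push_cast at hs
  have h2 : ‖χ b‖ ^ 2 = (d : ℝ) ^ 2 := by nlinarith
  exact (sq_eq_sq₀ (norm_nonneg _) (Nat.cast_nonneg _)).mp h2

end Cfsg.Agent.Block.RootSingular
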