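import Cfsg.Agent.Lib.Block.RootSingular.Basic

/-!
A `p`-subgroup containing the normal `p`-subgroup: it is equal to it, or `p = 2`, the normal
subgroup is a four group and the `p`-subgroup is dihedral of order eight.
-/

namespace Cfsg.Agent.Block.RootSingular

open Cfsg Cfsg.Agent.Char
open scoped ComplexConjugate

universe u

/-- Two invariant constituents on an abelian subgroup of index two force a large norm. -/
theorem two_fixed {K : Type u} [Group K] [Fintype K] (A : Subgroup K) [A.Normal] [Fintype A]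
    (hA2 : A.index = 2) (hab : ∀ a b : A, a * b = b * a) {f : K → ℂ} (hf : IsCharacter K f)
    {d : ℕ} (hd : f 1 = d) (h1 : f 1 + 1 = (Nat.card A : ℂ))
    (hv : ∀ a ∈ A, a ≠ 1 → f a = -1) {N : ℕ} (hN : classInner f f = N)
    {θ₁ θ₂ : A → ℂ} (hθ₁ : IsIrrCharacter A θ₁) (hθ₂ : IsIrrCharacter A θ₂)
    (hne : θ₁ ≠ θ₂) (h11 : θ₁ ≠ fun _ => 1) (h21 : θ₂ ≠ fun _ => 1)
    (hi₁ : inertia A θ₁ = ⊤) (hi₂ : inertia A θ₂ = ⊤) : d + 2 ≤ 2 * N := by
  classical
  obtain ⟨a, ha, hdec⟩ := IsChar.exists_decomp_inner hf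
  choose n hn0 hn using fun φ : IrrCharacter K => IsIrr.one_eq_pos φ.2
  have hres : ∀ φ : IrrCharacter K, IsCharacter A (fun x : A => (φ : K → ℂ) x) := fun φ =>
    IsChar.res (IsIrr.isCharacter φ.2) A
  have hsum : ∀ θ : A → ℂ, classInner (fun x : A => f x) θ =
      ∑ φ : IrrCharacter K, (a φ : ℂ) * classInner (fun x : A => (φ : K → ℂ) x) θ := fun θ => by
    conv_lhs => rw [show (fun x : A => f x) =
      ∑ φ : IrrCharacter K, (a φ : ℂ) • (fun x : A => (φ : K → ℂ) x) from funext fun x => by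
        conv_lhs => rw [hdec]
        simp [Finset.sum_apply]]
    rw [classInner_sum_left]
    exact Finset.sum_congr rfl fun φ _ => classInner_smul_left _ _ _
  have hmult : ∀ θ : A → ℂ, IsIrrCharacter A θ → ∀ φ : IrrCharacter K, a φ ≠ 0 → ∀ e : ℕ,
      classInner (fun x : A => (φ : K → ℂ) x) θ = e → e ≤ 1 := by
    intro θ hθ φ hφ e he
    choose m hm using fun ψ : IrrCharacter K =>
      IsChar.classInner_nat (hres ψ) (IsIrr.isCharacter hθ)
    have h2 := hsum θ
    rw [mult_of_values hab (by simpa using h1)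
      (fun x hx => hv x x.2 fun e => hx (Subtype.ext e)) hθ] at h2
    simp only [hm] at h2
    have h3 : ∑ ψ : IrrCharacter K, a ψ * m ψ ≤ 1 := by
      have : ((∑ ψ : IrrCharacter K, a ψ * m ψ : ℕ) : ℂ) =
          ((if θ = (fun _ => 1) then 0 else 1 : ℕ) : ℂ) := by
        push_cast
        rw [← h2]
      rw [Nat.cast_inj] at this
      rw [this]
      split_ifs <;> omega
    have h4 := Finset.single_le_sum (f := fun ψ => a ψ * m ψ) (fun _ _ => Nat.zero_le _)
      (Finset.mem_univ φ)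
    have h5 : m φ = e := by exact_mod_cast (hm φ).symm.trans he
    simp only [h5] at h4
    calc e ≤ a φ * e := Nat.le_mul_of_pos_left e (Nat.pos_of_ne_zero hφ)
      _ ≤ 1 := h4.trans h3
  have hdeg : ∀ θ : A → ℂ, IsIrrCharacter A θ → ∀ φ : IrrCharacter K, a φ ≠ 0 →
      classInner (fun x : A => (φ : K → ℂ) x) θ ≠ 0 → n φ ≤ (inertia A θ).index := by
    intro θ hθ φ hφ hc
    obtain ⟨e, he⟩ := IsChar.classInner_nat (hres φ) (IsIrr.isCharacter hθ)
    have h2 := clifford_one A φ.2 hθ hc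
    rw [hn, he, IsIrr.one_of_comm hab hθ, mul_one] at h2
    have h3 : n φ = e * (inertia A θ).index := by exact_mod_cast h2
    rw [h3]
    simpa using Nat.mul_le_mul_right (inertia A θ).index (hmult θ hθ φ hφ e he)
  have hle : ∀ φ : IrrCharacter K, a φ ≠ 0 → n φ ≤ 2 := by
    intro φ hφ
    obtain ⟨θ, hθ⟩ := IsChar.exists_constituent' (hres φ) (by
      simp only [Subgroup.coe_one]; exact IsIrr.one_ne_zero φ.2)
    refine (hdeg θ θ.2 φ hφ hθ).trans (Nat.le_of_dvd two_pos ?_)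
    exact hA2 ▸ Subgroup.index_dvd_of_le (le_inertia A (IsIrr.classFun θ.2))
  have hex : ∀ θ : A → ℂ, IsIrrCharacter A θ → θ ≠ (fun _ => 1) → inertia A θ = ⊤ →
      ∃ φ : IrrCharacter K, a φ ≠ 0 ∧ n φ = 1 ∧
        classInner (fun x : A => (φ : K → ℂ) x) θ ≠ 0 := by
    intro θ hθ ht hi
    have h2 := hsum θ
    rw [mult_of_values hab (by simpa using h1)
      (fun x hx => hv x x.2 fun e => hx (Subtype.ext e)) hθ, if_neg ht] at h2
    obtain ⟨φ, -, hφ⟩ := Finset.exists_ne_zero_of_sum_ne_zero (h2 ▸ one_ne_zero :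
      ∑ φ : IrrCharacter K, (a φ : ℂ) * classInner (fun x : A => (φ : K → ℂ) x) θ ≠ 0)
    rw [ne_eq, mul_eq_zero, not_or, Nat.cast_eq_zero] at hφ
    refine ⟨φ, hφ.1, ?_, hφ.2⟩
    have h3 := hdeg θ hθ φ hφ.1 hφ.2
    rw [hi, Subgroup.index_top] at h3
    have := hn0 φ
    omega
  obtain ⟨φ₁, ha₁, hn₁, hc₁⟩ := hex θ₁ hθ₁ h11 hi₁
  obtain ⟨φ₂, ha₂, hn₂, hc₂⟩ := hex θ₂ hθ₂ h21 hi₂
  have hφne : φ₁ ≠ φ₂ := fun e => by
    subst e
    obtain ⟨g, hg⟩ := exists_conj_of_constituents A φ₁.2 hθ₁ hθ₂ hc₁ hc₂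
    refine hne (Eq.trans ?_ hg)
    exact ((mem_inertia A).mp (hi₁ ▸ Subgroup.mem_top g)).symm
  have hd' : d = ∑ φ : IrrCharacter K, a φ * n φ := by
    have h2 := congrFun hdec 1
    simp only [Finset.sum_apply, Pi.smul_apply, smul_eq_mul, hn, hd] at h2
    exact_mod_cast h2
  have hN' : N = ∑ φ : IrrCharacter K, a φ * a φ := by
    rw [hdec, classInner_sum_sum] at hN
    have h2 : ((∑ φ : IrrCharacter K, a φ * a φ : ℕ) : ℂ) = (N : ℂ) := by
      rw [← hN]
      simp
    exact_mod_cast h2.symm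
  have h2le : (2 : ℕ) ≤ ∑ φ : IrrCharacter K, if φ = φ₁ ∨ φ = φ₂ then 1 else 0 := by
    refine le_trans (le_of_eq ?_) (Finset.sum_le_sum_of_subset (Finset.subset_univ {φ₁, φ₂}))
    rw [Finset.sum_pair hφne]
    simp
  calc d + 2 ≤ ∑ φ : IrrCharacter K, (a φ * n φ + if φ = φ₁ ∨ φ = φ₂ then 1 else 0) := by
        rw [Finset.sum_add_distrib, ← hd']
        omega
    _ ≤ ∑ φ : IrrCharacter K, 2 * (a φ * a φ) := Finset.sum_le_sum fun φ _ => by
        split_ifs with hφ
        · rcases hφ with rfl | rfl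
          · rw [hn₁]
            have := Nat.le_mul_self (a φ)
            omega
          · rw [hn₂]
            have := Nat.le_mul_self (a φ)
            omega
        · rcases Nat.eq_zero_or_pos (a φ) with h0 | h0
          · simp [h0]
          · have h3 := Nat.mul_le_mul_left (a φ) (hle φ h0.ne')
            have := Nat.le_mul_self (a φ)
            omega
    _ = 2 * N := by rw [hN', Finset.mul_sum]

/-- Many linear characters trivial on a subgroup. -/
theorem exists_two_irr {A : Type u} [Group A] [Finite A] (hab : ∀ a b : A, a * b = b * a)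
    (M : Subgroup A) (hM : 3 ≤ M.index) :
    ∃ θ₁ θ₂ : A → ℂ, IsIrrCharacter A θ₁ ∧ IsIrrCharacter A θ₂ ∧ θ₁ ≠ θ₂ ∧
      θ₁ ≠ (fun _ => 1) ∧ θ₂ ≠ (fun _ => 1) ∧ (∀ m ∈ M, θ₁ m = 1) ∧ ∀ m ∈ M, θ₂ m = 1 := by
  classical
  haveI : M.Normal := ⟨fun m hm g => by rw [hab g m, mul_inv_cancel_right]; exact hm⟩
  have habq : ∀ a b : A ⧸ M, a * b = b * a := by
    intro a b
    induction a using QuotientGroup.induction_on
    induction b using QuotientGroup.induction_on
    rw [← QuotientGroup.mk_mul, ← QuotientGroup.mk_mul, hab]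
  haveI := Fintype.ofFinite (A ⧸ M)
  have hone : ∀ χ' : IrrCharacter (A ⧸ M), (χ' : A ⧸ M → ℂ) 1 = 1 := fun χ' =>
    IsIrr.one_of_comm habq χ'.2
  have hcard : Fintype.card (IrrCharacter (A ⧸ M)) = M.index := by
    have h1 := sum_degree_sq (G := A ⧸ M)
    simp only [hone, one_pow, Finset.sum_const, nsmul_eq_mul, mul_one] at h1
    exact_mod_cast h1
  obtain ⟨ψ₁, hψ₁, ψ₂, hψ₂, hne⟩ := Finset.one_lt_card.mp (show 1 < ((Finset.univ :
      Finset (IrrCharacter (A ⧸ M))).erase ⟨_, isIrr_one⟩).card by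
    rw [Finset.card_erase_of_mem (Finset.mem_univ _), Finset.card_univ, hcard]
    omega)
  have hsurj : Function.Surjective (QuotientGroup.mk' M) := QuotientGroup.mk'_surjective M
  have hinj : ∀ ψ ψ' : IrrCharacter (A ⧸ M), (fun x => (ψ : A ⧸ M → ℂ) (QuotientGroup.mk' M x)) =
      (fun x => (ψ' : A ⧸ M → ℂ) (QuotientGroup.mk' M x)) → ψ = ψ' := fun ψ ψ' e =>
    Subtype.ext (funext fun y => by
      obtain ⟨x, rfl⟩ := hsurj y
      exact congrFun e x)
  have hker : ∀ ψ : IrrCharacter (A ⧸ M), ∀ m ∈ M,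
      (ψ : A ⧸ M → ℂ) (QuotientGroup.mk' M m) = 1 := fun ψ m hm => by
    rw [QuotientGroup.mk'_apply, (QuotientGroup.eq_one_iff m).mpr hm, hone]
  refine ⟨_, _, IsIrr.comp_surjective _ hsurj ψ₁.2, IsIrr.comp_surjective _ hsurj ψ₂.2,
    fun e => hne (hinj _ _ e), fun e => (Finset.mem_erase.mp hψ₁).1 (hinj ψ₁ ⟨_, isIrr_one⟩ e),
    fun e => (Finset.mem_erase.mp hψ₂).1 (hinj ψ₂ ⟨_, isIrr_one⟩ e), hker ψ₁, hker ψ₂⟩

variable {G : Type u} [Group G] [Finite G] {p : ℕ} [hp : Fact p.Prime] {χ : G → ℂ} {d : ℕ}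
  {P : Subgroup G} [P.Normal]

theorem Hyp.card_P (h : Hyp p χ d) (hP : IsPGroup p P) (hne : P ≠ ⊥) :
    d + 1 = Nat.card P ∧ ∀ x ∈ P, x ≠ 1 → χ x = -1 :=
  let r := h.abelian_normal hP hne (h.pGroup_comm hP hne)
  ⟨r.1, r.2.1⟩

theorem Hyp.sylow_alt (h : Hyp p χ d) (hP : IsPGroup p P) (hne : P ≠ ⊥) {Q : Subgroup G}
    (hQ : IsPGroup p Q) (hPQ : P ≤ Q) :
    Q = P ∨ (p = 2 ∧ Nat.card P = 4 ∧ Nat.card Q = 8 ∧
      (∀ q ∈ Q, q ∉ P → q ∉ Subgroup.centralizer (P : Set G)) ∧
      ∃ s ∈ Q, s ∉ P ∧ s * s = 1) := by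
  classical
  haveI := Fintype.ofFinite G
  obtain ⟨hc, hv⟩ := h.card_P hP hne
  obtain ⟨N, hN, hN'⟩ := h.norm_eq Q fun x hx h1 => h.norm_of_mem hQ hx h1
  obtain ⟨nP, hnP⟩ := IsPGroup.iff_card.mp hP
  obtain ⟨nQ, hnQ⟩ := IsPGroup.iff_card.mp hQ
  set c := Nat.card P with hcdef
  have hmul := Grp.card_mul_relIndex hPQ
  set k := P.relIndex Q with hkdef
  obtain ⟨i, -, hki⟩ := (Nat.dvd_prime_pow hp.out).mp (hnQ ▸ hmul ▸ dvd_mul_left k c : k ∣ p ^ nQ)
  have h2d := h.two_le
  obtain ⟨b, hb⟩ : ∃ b, c = b + 2 := ⟨c - 2, by omega⟩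
  have hkN : k * N = k + b := by
    have h1 : c * (k * N) + 1 = d * d + c * k := by rw [← mul_assoc, hmul]; exact hN'
    have h2 : d = b + 1 := by omega
    rw [h2, hb] at h1
    have : (b + 2) * (k * N) = (b + 2) * (k + b) := by
      have h3 : (b + 1) * (b + 1) = (b + 2) * b + 1 := by ring
      rw [mul_add]
      omega
    exact Nat.eq_of_mul_eq_mul_left (by omega) this
  have hkb : k ∣ b := (Nat.dvd_add_right (dvd_refl k)).mp ⟨N, hkN.symm⟩
  rcases Nat.eq_zero_or_pos i with rfl | hi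
  · left
    rw [pow_zero] at hki
    rw [hki, mul_one] at hmul
    exact (Subgroup.eq_of_le_of_card_ge hPQ hmul.ge).symm
  right
  have hnP2 : 0 < nP := Nat.pos_of_ne_zero fun h0 => by rw [h0, pow_zero] at hnP; omega
  have hpc : p ∣ c := hnP ▸ dvd_pow_self p hnP2.ne'
  have hpk : p ∣ k := hki ▸ dvd_pow_self p hi.ne'
  have hp2 : p = 2 := by
    have : p ∣ 2 := (Nat.dvd_add_right (hpk.trans hkb)).mp (hb ▸ hpc)
    exact (Nat.prime_dvd_prime_iff_eq hp.out Nat.prime_two).mp this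
  subst hp2
  have hnP_two : 2 ≤ nP := by
    by_contra hlt
    rw [show nP = 1 by omega, pow_one] at hnP
    omega
  have hk2 : k = 2 := by
    have h4c : 4 ∣ c := by
      have : 2 ≤ nP := hnP_two
      obtain ⟨j, rfl⟩ := Nat.exists_eq_add_of_le this
      exact ⟨2 ^ j, by rw [hnP, pow_add]; norm_num⟩
    rcases Nat.lt_or_ge i 2 with h2 | h2
    · rw [show i = 1 by omega, pow_one] at hki; exact hki
    · exfalso
      have : 4 ∣ k := hki ▸ (show (4 : ℕ) ∣ 2 ^ i from
        (by norm_num : (4 : ℕ) = 2 ^ 2) ▸ pow_dvd_pow 2 h2)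
      have := this.trans hkb
      omega
  rw [hk2] at hmul hkN
  set A : Subgroup Q := P.subgroupOf Q with hA
  haveI : A.Normal := inferInstance
  have hA2 : A.index = 2 := by rw [← hk2]; rfl
  have hAc : Nat.card A = c := Nat.card_congr (Subgroup.subgroupOfEquivOfLe hPQ).toEquiv
  have hcomm := h.pGroup_comm hP hne
  have hab : ∀ a b : A, a * b = b * a := fun a b =>
    Subtype.ext (Subtype.ext (hcomm _ a.2 _ b.2))
  have hf := IsChar.res (IsIrr.isCharacter h.irr) Q
  have h1A : χ ((1 : Q) : G) + 1 = (Nat.card A : ℂ) := by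
    rw [Subgroup.coe_one, h.deg, hAc, ← hc, Nat.cast_add, Nat.cast_one]
  have key : ∀ q : Q, q ∉ A → c = 4 ∧
      ∃ x : A, (MulAut.conjNormal q : MulAut A) x ≠ x ∧
        ∀ y z : A, (MulAut.conjNormal q : MulAut A) y = y → (MulAut.conjNormal q : MulAut A) z = z →
          y ≠ 1 → z ≠ 1 → y = z := by
    intro q hq
    set σ : MulAut A := MulAut.conjNormal q with hσ
    let ρ : A →* A :=
      { toFun := fun x => x * σ x
        map_one' := by simp
        map_mul' := fun x y => by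
          rw [map_mul, mul_assoc, mul_assoc, ← mul_assoc y, hab y (σ x), mul_assoc] }
    have hsq : ∀ x : A, x * x = 1 := fun x => Subtype.ext (Subtype.ext (by
      have := h.pGroup_pow hP hne _ x.2
      rw [pow_two] at this
      exact this))
    have hqq : q * q ∈ A := Subgroup.mul_self_mem_of_index_two hA2 q
    have hσσ : ∀ x : A, σ (σ x) = x := fun x => Subtype.ext (by
      have h1 : q * q * (x : Q) = x * (q * q) := congrArg Subtype.val (hab ⟨_, hqq⟩ x)
      rw [hσ, MulAut.conjNormal_apply, MulAut.conjNormal_apply]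
      calc q * (q * (x : Q) * q⁻¹) * q⁻¹ = q * q * x * (q * q)⁻¹ := by group
        _ = x := by rw [h1, mul_inv_cancel_right])
    have hker : ∀ x : A, x ∈ ρ.ker ↔ σ x = x := fun x => by
      rw [MonoidHom.mem_ker]
      show x * σ x = 1 ↔ _
      constructor
      · intro e
        exact mul_left_cancel (e.trans (hsq x).symm)
      · intro e
        rw [e, hsq]
    have hrk : ρ.range ≤ ρ.ker := by
      rintro _ ⟨x, rfl⟩
      rw [hker]
      show σ (x * σ x) = x * σ x
      rw [map_mul, hσσ, hab]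
    have hidx : ρ.range.index ≤ 2 := by
      by_contra hgt
      obtain ⟨θ₁, θ₂, hθ₁, hθ₂, hne12, h11, h21, hk₁, hk₂⟩ :=
        exists_two_irr hab ρ.range (by omega)
      have hfix : ∀ θ : A → ℂ, IsIrrCharacter A θ → (∀ m ∈ ρ.range, θ m = 1) →
          inertia A θ = ⊤ := by
        intro θ hθ hθk
        obtain ⟨l, hl⟩ := linearHom_of_isCharacter (IsIrr.isCharacter hθ)
          (IsIrr.one_of_comm hab hθ)
        have hq' : q ∈ inertia A θ := (mem_inertia A).mpr (funext fun x => by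
          have e2 : (l x : ℂ) * (l (σ x) : ℂ) = 1 := by
            have := hθk (ρ x) ⟨x, rfl⟩
            rw [hl] at this
            simpa [ρ] using this
          have e3 : (l x : ℂ) * (l x : ℂ) = 1 := by
            rw [← Units.val_mul, ← map_mul, hsq, map_one, Units.val_one]
          rw [conjN_eq_comp, hl]
          exact mul_left_cancel₀ (Units.ne_zero (l x)) (e2.trans e3.symm))
        refine eq_top_iff.mpr fun g _ => ?_
        by_cases hg : g ∈ A
        · exact le_inertia A (IsIrr.classFun hθ) hg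
        · have : g * q⁻¹ ∈ A := by
            rw [Subgroup.mul_mem_iff_of_index_two hA2, inv_mem_iff]
            exact iff_of_false hg hq
          have := mul_mem (le_inertia A (IsIrr.classFun hθ) this) hq'
          rwa [inv_mul_cancel_right] at this
      have := two_fixed A hA2 hab hf (d := d) (by simp [h.deg]) h1A
        (fun a ha ha1 => hv _ (Subgroup.mem_subgroupOf.mp ha) fun e => ha1 (Subtype.ext e))
        hN hθ₁ hθ₂ hne12 h11 h21 (hfix θ₁ hθ₁ hk₁) (hfix θ₂ hθ₂ hk₂)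
      omega
    have hk1 : Nat.card ρ.ker * Nat.card ρ.range = Nat.card A := by
      rw [← Subgroup.index_ker, Subgroup.card_mul_index]
    have hk3 : Nat.card ρ.range * ρ.range.index = Nat.card A := Subgroup.card_mul_index _
    have hkle : Nat.card ρ.ker ≤ 2 := by
      have : Nat.card ρ.ker = ρ.range.index :=
        Nat.eq_of_mul_eq_mul_left Nat.card_pos
          (show Nat.card ρ.range * Nat.card ρ.ker = Nat.card ρ.range * ρ.range.index by
            rw [hk3, mul_comm, hk1])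
      omega
    have hrle : Nat.card ρ.range ≤ Nat.card ρ.ker := Subgroup.card_le_of_le hrk
    have hc4 : c = 4 := by
      have : Nat.card A ≤ 4 := by rw [← hk1]; exact Nat.mul_le_mul hkle (hrle.trans hkle)
      have : 2 ≤ nP := hnP_two
      have h4 : 4 ≤ c := by
        rw [hnP]; exact (by norm_num : (4 : ℕ) = 2 ^ 2) ▸ Nat.pow_le_pow_right two_pos this
      omega
    obtain ⟨x, hx⟩ : ∃ x : A, σ x ≠ x := by
      by_contra hno
      push Not at hno
      have : ρ.ker = ⊤ := eq_top_iff.mpr fun x _ => (hker x).mpr (hno x)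
      rw [this, Subgroup.card_top] at hkle
      omega
    refine ⟨hc4, x, hx, ?_⟩
    · intro y z hy hz hy1 hz1
      by_contra hyz
      have h3 : ({(1 : A), y, z} : Finset A).card = 3 := by
        rw [Finset.card_eq_three]
        exact ⟨1, y, z, Ne.symm hy1, Ne.symm hz1, hyz, rfl⟩
      have h4 : ({(1 : A), y, z} : Finset A).card ≤ Nat.card ρ.ker := by
        rw [← Nat.card_eq_finsetCard]
        refine Nat.card_le_card_of_injective
          (fun w => (⟨w.1, ?_⟩ : ρ.ker)) (fun w w' e => Subtype.ext ?_)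
        · have hw : w.1 = 1 ∨ w.1 = y ∨ w.1 = z := by
            simpa only [Finset.mem_insert, Finset.mem_singleton] using w.2
          rcases hw with e | e | e <;> rw [e]
          · exact one_mem _
          · exact (hker y).mpr hy
          · exact (hker z).mpr hz
        · exact (congrArg (fun v : ρ.ker => (v : A)) e :)
      omega
  obtain ⟨q, hqQ, hqP⟩ : ∃ q ∈ Q, q ∉ P := by
    by_contra hno
    push Not at hno
    have : Nat.card Q ≤ Nat.card P := Subgroup.card_le_of_le hno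
    omega
  have hqA : (⟨q, hqQ⟩ : Q) ∉ A := fun e => hqP (Subgroup.mem_subgroupOf.mp e)
  obtain ⟨hc4, x, hx, huniq⟩ := key _ hqA
  refine ⟨rfl, hc4, by omega, fun r hr hrP hrC => ?_, ?_⟩
  · obtain ⟨-, y, hy, -⟩ := key ⟨r, hr⟩ (fun e => hrP (Subgroup.mem_subgroupOf.mp e))
    refine hy (Subtype.ext (Subtype.ext ?_))
    rw [MulAut.conjNormal_apply]
    show r * (y : Q) * r⁻¹ = ((y : Q) : G)
    rw [← Subgroup.mem_centralizer_iff.mp hrC _ (Subgroup.mem_subgroupOf.mp y.2),
      mul_inv_cancel_right]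
  by_cases hq2 : q * q = 1
  · exact ⟨q, hqQ, hqP, hq2⟩
  set q' : Q := ⟨q, hqQ⟩ with hq'
  have hqq : q' * q' ∈ A := Subgroup.mul_self_mem_of_index_two hA2 q'
  set σ : MulAut A := MulAut.conjNormal q' with hσ
  have hσσ : ∀ y : A, σ (σ y) = y := fun y => Subtype.ext (by
    have h1 : q' * q' * (y : Q) = y * (q' * q') := congrArg Subtype.val (hab ⟨_, hqq⟩ y)
    rw [hσ, MulAut.conjNormal_apply, MulAut.conjNormal_apply]
    calc q' * (q' * (y : Q) * q'⁻¹) * q'⁻¹ = q' * q' * y * (q' * q')⁻¹ := by group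
      _ = y := by rw [h1, mul_inv_cancel_right])
  have he : x * σ x = ⟨q' * q', hqq⟩ := by
    refine huniq _ _ ?_ ?_ ?_ ?_
    · show σ (x * σ x) = x * σ x
      rw [map_mul, hσσ, hab]
    · exact Subtype.ext (by
        rw [MulAut.conjNormal_apply]
        group)
    · intro e
      refine hx (?_ : σ x = x)
      rw [mul_eq_one_iff_inv_eq] at e
      rw [← e]
      exact inv_eq_of_mul_eq_one_right (Subtype.ext (Subtype.ext (by
        have := h.pGroup_pow hP hne _ x.2
        rw [pow_two] at this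
        exact this)))
    · exact fun e => hq2 (congrArg (fun w : A => ((w : Q) : G)) e)
  refine ⟨((x : Q) : G) * q, Q.mul_mem (x : Q).2 hqQ, fun e => hqP ?_, ?_⟩
  · exact (P.mul_mem_cancel_left (Subgroup.mem_subgroupOf.mp x.2)).mp e
  · have e2 : ((x : Q) : G) * (q * ((x : Q) : G) * q⁻¹) = q * q :=
      congrArg (fun w : A => ((w : Q) : G)) he
    have e3 : (q * q) * (q * q) = 1 := by
      have := h.pGroup_pow hP hne _ (Subgroup.mem_subgroupOf.mp hqq)
      rw [pow_two] at this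
      exact this
    calc ((x : Q) : G) * q * (((x : Q) : G) * q)
        = ((x : Q) : G) * (q * ((x : Q) : G) * q⁻¹) * (q * q) := by group
      _ = 1 := by rw [e2, e3]

end Cfsg.Agent.Block.RootSingular
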