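import Cfsg.Agent.Lib.Block.RootSingular.Centralizer

/-!
The exceptional case: a normal four group with an outer involution yields the symmetric group of
degree four as a complement to the centre.
-/

namespace Cfsg.Agent.Block.RootSingular

universe u

variable {G : Type u} [Group G]

set_option synthInstance.maxSize 2000 in
theorem perm_three_move : ∀ σ τ : Equiv.Perm (Fin 3), τ * τ = 1 → τ ≠ 1 → ∀ i, τ i = i → σ i ≠ i →
    (σ * σ * σ = 1 ∧ σ ≠ 1) ∨ ((σ * τ) * (σ * τ) * (σ * τ) = 1 ∧ σ * τ ≠ 1) := by decide +kernel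

theorem perm_three_fix : ∀ τ : Equiv.Perm (Fin 3), τ * τ = 1 → τ ≠ 1 → ∃ i, τ i = i := by
  decide +kernel

set_option synthInstance.maxSize 2000 in
theorem perm_three_comm : ∀ σ τ : Equiv.Perm (Fin 3), σ * σ * σ = 1 → σ ≠ 1 → τ * τ = 1 → τ ≠ 1 →
    (σ * τ * σ⁻¹ * τ) * (σ * τ * σ⁻¹ * τ) * (σ * τ * σ⁻¹ * τ) = 1 ∧
      σ * τ * σ⁻¹ * τ ≠ 1 := by decide +kernel

theorem perm_three_fpf : ∀ σ : Equiv.Perm (Fin 3), σ * σ * σ = 1 → σ ≠ 1 → ∀ i, σ i ≠ i := by
  decide +kernel

theorem perm_three_gen : ∀ σ τ : Equiv.Perm (Fin 3), σ * σ * σ = 1 → σ ≠ 1 → τ * τ = 1 → τ ≠ 1 →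
    (∀ i : Fin 2, ∀ j : Fin 3, τ ^ (i : ℕ) * σ ^ (j : ℕ) = 1 → (i : ℕ) = 0 ∧ (j : ℕ) = 0) ∧
      ∀ π : Equiv.Perm (Fin 3), ∃ i : Fin 2, ∃ j : Fin 3, π = τ ^ (i : ℕ) * σ ^ (j : ℕ) := by
  decide +kernel

/-- The conjugation action on the non-identity elements of a normal subgroup. -/
noncomputable def pointHom (P : Subgroup G) [P.Normal] :
    G →* Equiv.Perm {x : P // x ≠ 1} where
  toFun g := (MulAut.conjNormal g : MulAut P).toEquiv.subtypeEquiv fun x => by simp
  map_one' := by ext x; simp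
  map_mul' a b := by ext x; simp [mul_assoc]

theorem pointHom_apply (P : Subgroup G) [P.Normal] (g : G) (x : {x : P // x ≠ 1}) :
    (((pointHom P g x : {x : P // x ≠ 1}) : P) : G) = g * ((x : P) : G) * g⁻¹ := by
  simp [pointHom]

variable [Finite G]

theorem symFour {P : Subgroup G} [P.Normal] (hP4 : Nat.card P = 4)
    (hPZ : P ⊓ Subgroup.center G = ⊥)
    (hodd : Odd (Nat.card (Subgroup.center G)))
    (hC : Subgroup.centralizer (P : Set G) = P ⊔ Subgroup.center G)
    {s : G} (hs : s * s = 1) (hsC : s ∉ Subgroup.centralizer (P : Set G)) :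
    ∃ H : Subgroup G, Nonempty (↥H ≃* Equiv.Perm (Fin 4)) ∧ H ⊓ Subgroup.center G = ⊥ ∧
      H ⊔ Subgroup.center G = ⊤ := by
  classical
  have h3 : Nat.card {x : P // x ≠ 1} = 3 := by
    haveI := Fintype.ofFinite P
    rw [Nat.card_eq_fintype_card, Fintype.card_subtype_compl, Fintype.card_subtype_eq,
      ← Nat.card_eq_fintype_card, hP4]
  let e : {x : P // x ≠ 1} ≃ Fin 3 := (Nat.equivFinOfCardPos (by omega)).trans (finCongr h3)
  let Φ : G →* Equiv.Perm (Fin 3) := e.permCongrHom.toMonoidHom.comp (pointHom P)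
  have hΦ : ∀ g x, Φ g (e x) = e (pointHom P g x) := fun g x => by
    simp [Φ, Equiv.permCongrHom, Equiv.permCongr_apply]
  have hker : ∀ g, Φ g = 1 ↔ g ∈ Subgroup.centralizer (P : Set G) := fun g => by
    constructor
    · intro hg
      refine Subgroup.mem_centralizer_iff.mpr fun a ha => ?_
      by_cases ha1 : a = 1
      · simp [ha1]
      · have h1 := hΦ g ⟨⟨a, ha⟩, fun e => ha1 (congrArg Subtype.val e)⟩
        rw [hg, Equiv.Perm.one_apply] at h1
        have h2 := congrArg (fun y : {x : P // x ≠ 1} => ((y : P) : G)) (e.injective h1)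
        simp only [pointHom_apply] at h2
        exact eq_mul_inv_iff_mul_eq.mp h2
    · intro hg
      refine Equiv.ext fun i => ?_
      obtain ⟨x, rfl⟩ := e.surjective i
      rw [hΦ, Equiv.Perm.one_apply]
      refine congrArg e (Subtype.ext (Subtype.ext ?_))
      rw [pointHom_apply, ← Subgroup.mem_centralizer_iff.mp hg _ (x : P).2, mul_inv_cancel_right]
  have hfix : ∀ g i, Φ g i = i → ∃ x : P, x ≠ 1 ∧ g * (x : G) = (x : G) * g ∧ e.symm i = x := by
    intro g i hi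
    refine ⟨(e.symm i).1, (e.symm i).2, ?_, rfl⟩
    have h1 := hΦ g (e.symm i)
    rw [Equiv.apply_symm_apply, hi] at h1
    have h2 := congrArg (fun y : {x : P // x ≠ 1} => ((y : P) : G)) (congrArg e.symm h1)
    simp only [Equiv.symm_apply_apply, pointHom_apply] at h2
    exact (eq_mul_inv_iff_mul_eq.mp h2).symm
  set τ := Φ s with hτdef
  have hτ : τ * τ = 1 := by rw [hτdef, ← map_mul, hs, map_one]
  have hτ1 : τ ≠ 1 := fun e => hsC ((hker s).mp e)
  -- an element acting as a three-cycle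
  obtain ⟨g, hg3, hg1⟩ : ∃ g, Φ g * Φ g * Φ g = 1 ∧ Φ g ≠ 1 := by
    obtain ⟨i, hi⟩ := perm_three_fix τ hτ hτ1
    obtain ⟨g, hg⟩ : ∃ g, Φ g i ≠ i := by
      by_contra hno
      push Not at hno
      obtain ⟨x, hx1, -, hxi⟩ := hfix 1 i (hno 1)
      refine hx1 (Subtype.ext ((Subgroup.eq_bot_iff_forall _).mp hPZ x (Subgroup.mem_inf.mpr
        ⟨x.2, Subgroup.mem_center_iff.mpr fun g => ?_⟩)))
      obtain ⟨y, -, hy, hyi⟩ := hfix g i (hno g)
      rwa [show y = x from hyi.symm.trans hxi] at hy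
    rcases perm_three_move (Φ g) τ hτ hτ1 i hi hg with h | h
    · exact ⟨g, h⟩
    · exact ⟨g * s, by rw [map_mul]; exact h⟩
  set u : G := g * s * g⁻¹ * s with hu
  have hΦu : Φ u = Φ g * τ * (Φ g)⁻¹ * τ := by simp [hu, hτdef]
  obtain ⟨hu3, hu1⟩ := perm_three_comm (Φ g) τ hg3 hg1 hτ hτ1
  rw [← hΦu] at hu3 hu1
  have hsinv : s⁻¹ = s := inv_eq_of_mul_eq_one_right hs
  have hinv : s * u * s⁻¹ = u⁻¹ := by
    rw [hsinv, hu]
    simp only [mul_inv_rev, inv_inv, hsinv]
    simp [mul_assoc, hs]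
  have hu3G : u * u * u = 1 := by
    have hmem : u * u * u ∈ P ⊔ Subgroup.center G := by
      rw [← hC, ← hker, map_mul, map_mul]; exact hu3
    obtain ⟨x, hx, z, hz, hxz⟩ := Subgroup.mem_sup_of_normal_left.mp hmem
    have hzc : ∀ a, a * z = z * a := Subgroup.mem_center_iff.mp hz
    have hx1 : x = 1 := by
      by_contra hne
      refine perm_three_fpf (Φ u) hu3 hu1 (e ⟨⟨x, hx⟩, fun e => hne (congrArg Subtype.val e)⟩) ?_
      rw [hΦ]
      refine congrArg e (Subtype.ext (Subtype.ext ?_))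
      rw [pointHom_apply]
      show u * x * u⁻¹ = x
      rw [show x = u * u * u * z⁻¹ by rw [← hxz, mul_inv_cancel_right]]
      have hz' : ∀ a, a * z⁻¹ = z⁻¹ * a := Subgroup.mem_center_iff.mp (inv_mem hz)
      rw [mul_assoc u (u * u * u * z⁻¹), mul_assoc (u * u * u) z⁻¹, ← hz' u⁻¹]
      group
    rw [hx1, one_mul] at hxz
    have hzz : z * z = 1 := by
      have e1 : s * (u * u * u) * s⁻¹ = (u * u * u)⁻¹ := by
        calc s * (u * u * u) * s⁻¹ = (s * u * s⁻¹) * (s * u * s⁻¹) * (s * u * s⁻¹) := by group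
          _ = (u * u * u)⁻¹ := by rw [hinv]; group
      rw [← hxz, hzc s, mul_inv_cancel_right] at e1
      conv_lhs => arg 1; rw [e1]
      exact inv_mul_cancel z
    rw [← hxz]
    by_contra hz1
    have h2 : orderOf (⟨z, hz⟩ : Subgroup.center G) = 2 :=
      orderOf_eq_prime (Subtype.ext (by rw [Subgroup.coe_pow, pow_two]; exact hzz))
        fun e => hz1 (congrArg Subtype.val e)
    exact (Nat.not_even_iff_odd.mpr hodd)
      (even_iff_two_dvd.mpr (h2 ▸ orderOf_dvd_natCard _))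
  -- the complement of the four group
  set K : Subgroup G := Subgroup.zpowers s ⊔ Subgroup.zpowers u with hK
  have hnorm : Subgroup.zpowers s ≤ Subgroup.normalizer ((Subgroup.zpowers u : Subgroup G) : Set G) := by
    rw [Subgroup.zpowers_le]
    refine Subgroup.mem_normalizer_iff.mpr fun a => ?_
    have key : ∀ a, a ∈ Subgroup.zpowers u → s * a * s⁻¹ ∈ Subgroup.zpowers u := by
      rintro _ ⟨i, rfl⟩
      show s * u ^ i * s⁻¹ ∈ _
      rw [← conj_zpow, hinv, inv_zpow]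
      exact inv_mem (zpow_mem (Subgroup.mem_zpowers u) i)
    refine ⟨key a, fun h => ?_⟩
    have := key _ h
    rw [hsinv] at this
    rwa [show s * (s * a * s) * s = s * s * a * (s * s) by group, hs, one_mul, mul_one] at this
  have hKform : ∀ k ∈ K, ∃ i : Fin 2, ∃ j : Fin 3, k = s ^ (i : ℕ) * u ^ (j : ℕ) := by
    intro k hk
    rw [hK, ← SetLike.mem_coe, Subgroup.coe_mul_of_left_le_normalizer_right _ _ hnorm] at hk
    obtain ⟨a, ⟨i, rfl⟩, b, ⟨j, rfl⟩, rfl⟩ := Set.mem_mul.mp hk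
    refine ⟨⟨(i % 2).toNat, by omega⟩, ⟨(j % 3).toNat, by omega⟩, ?_⟩
    show s ^ i * u ^ j = s ^ (i % 2).toNat * u ^ (j % 3).toNat
    rw [← zpow_natCast s, ← zpow_natCast u, Int.toNat_of_nonneg (Int.emod_nonneg _ (by norm_num)),
      Int.toNat_of_nonneg (Int.emod_nonneg _ (by norm_num)),
      show s ^ (i % 2) = s ^ i from (zpow_eq_zpow_emod' i (n := 2) (by rw [pow_two]; exact hs)).symm,
      show u ^ (j % 3) = u ^ j from
        (zpow_eq_zpow_emod' j (n := 3) (by rw [pow_three, ← mul_assoc]; exact hu3G)).symm]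
  obtain ⟨hgen1, hgen2⟩ := perm_three_gen (Φ u) τ hu3 hu1 hτ hτ1
  have hKker : ∀ k ∈ K, Φ k = 1 → k = 1 := by
    intro k hk hk1
    obtain ⟨i, j, rfl⟩ := hKform k hk
    rw [map_mul, map_pow, map_pow] at hk1
    obtain ⟨hi, hj⟩ := hgen1 i j hk1
    simp [hi, hj]
  have hKsurj : ∀ π, ∃ k ∈ K, Φ k = π := fun π => by
    obtain ⟨i, j, rfl⟩ := hgen2 π
    exact ⟨s ^ (i : ℕ) * u ^ (j : ℕ), mul_mem
      (pow_mem (Subgroup.mem_sup_left (Subgroup.mem_zpowers s)) _)
      (pow_mem (Subgroup.mem_sup_right (Subgroup.mem_zpowers u)) _), by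
        rw [map_mul, map_pow, map_pow]⟩
  have hKcard : Nat.card K = 6 := by
    rw [Nat.card_eq_of_bijective (fun k : K => Φ k)
      ⟨fun a b hab => Subtype.ext ?_, fun π => ?_⟩, Nat.card_perm, Nat.card_fin]
    · rfl
    · have h1 : Φ ((a : G) * (b : G)⁻¹) = 1 := by
        rw [map_mul, map_inv, show Φ (a : G) = Φ (b : G) from hab, mul_inv_cancel]
      exact mul_inv_eq_one.mp (hKker _ (mul_mem a.2 (inv_mem b.2)) h1)
    · obtain ⟨k, hk, hk'⟩ := hKsurj π
      exact ⟨⟨k, hk⟩, hk'⟩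
  have hPle : P ≤ Subgroup.centralizer (P : Set G) := hC ▸ le_sup_left
  have hKP : K ⊓ P = ⊥ := (Subgroup.eq_bot_iff_forall _).mpr fun x hx =>
    hKker x (Subgroup.mem_inf.mp hx).1 ((hker x).mpr (hPle (Subgroup.mem_inf.mp hx).2))
  set H : Subgroup G := K ⊔ P with hH
  have hHcard : Nat.card H = 24 := by
    have h1 := Grp.card_sup_mul_card_inf_normal (H := K) (N := P)
    rw [hKP, Subgroup.card_bot, mul_one, hKcard, hP4] at h1
    exact h1
  refine ⟨H, ?_, ?_, ?_⟩
  · set K' : Subgroup H := K.subgroupOf H with hK'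
    have hK'card : Nat.card K' = 6 :=
      (Nat.card_congr (Subgroup.subgroupOfEquivOfLe le_sup_left).toEquiv).trans hKcard
    have hidx : K'.index = 4 := by
      have := Subgroup.card_mul_index K'
      rw [hK'card, hHcard] at this
      omega
    have hq : Nat.card (H ⧸ K') = 4 := hidx
    have hcore : K'.normalCore = ⊥ := by
      refine (Subgroup.eq_bot_iff_forall _).mpr fun n hn => Subtype.ext ?_
      have hnK : (n : G) ∈ K := Subgroup.mem_subgroupOf.mp (K'.normalCore_le hn)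
      refine hKker _ hnK ((hker _).mpr (Subgroup.mem_centralizer_iff.mpr fun x hx => ?_))
      have h1 : x * (n : G) * x⁻¹ ∈ K := Subgroup.mem_subgroupOf.mp (K'.normalCore_le
        ((inferInstance : K'.normalCore.Normal).conj_mem n hn ⟨x, Subgroup.mem_sup_right hx⟩))
      have h2 : x * (n : G) * x⁻¹ * (n : G)⁻¹ ∈ K ⊓ P :=
        Subgroup.mem_inf.mpr ⟨mul_mem h1 (inv_mem hnK), by
          rw [mul_assoc x, mul_assoc x]
          exact mul_mem hx ((inferInstance : P.Normal).conj_mem _ (inv_mem hx) _)⟩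
      rw [hKP, Subgroup.mem_bot, mul_inv_eq_one, mul_inv_eq_iff_eq_mul] at h2
      exact h2
    have hinj : Function.Injective (MulAction.toPermHom H (H ⧸ K')) := by
      rw [← MonoidHom.ker_eq_bot_iff, ← Subgroup.normalCore_eq_ker, hcore]
    have hbij := (Nat.bijective_iff_injective_and_card (MulAction.toPermHom H (H ⧸ K'))).mpr
      ⟨hinj, by rw [Nat.card_perm, hq, hHcard]; rfl⟩
    exact ⟨(MulEquiv.ofBijective _ hbij).trans
      ((Nat.equivFinOfCardPos (by omega)).trans (finCongr hq)).permCongrHom⟩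
  · refine (Subgroup.eq_bot_iff_forall _).mpr fun z hz => ?_
    obtain ⟨hzH, hzZ⟩ := Subgroup.mem_inf.mp hz
    obtain ⟨k, hk, x, hx, rfl⟩ := Subgroup.mem_sup_of_normal_right.mp hzH
    have h1 : Φ (k * x) = 1 := (hker _).mpr (Subgroup.center_le_centralizer _ hzZ)
    rw [map_mul, (hker x).mpr (hPle hx), mul_one] at h1
    have hk1 := hKker k hk h1
    rw [hk1, one_mul] at hzZ ⊢
    exact (Subgroup.eq_bot_iff_forall _).mp hPZ x (Subgroup.mem_inf.mpr ⟨hx, hzZ⟩)
  · refine eq_top_iff.mpr fun g _ => ?_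
    obtain ⟨k, hk, hk'⟩ := hKsurj (Φ g)
    have h1 : k⁻¹ * g ∈ P ⊔ Subgroup.center G := by
      rw [← hC, ← hker, map_mul, map_inv, hk', inv_mul_cancel]
    rw [show g = k * (k⁻¹ * g) by group]
    exact mul_mem (Subgroup.mem_sup_left (Subgroup.mem_sup_left hk))
      (sup_le_sup_right (le_sup_right : P ≤ H) _ h1)

end Cfsg.Agent.Block.RootSingular
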